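import Groth.Agent.H27Frob.SmoothFlat
import Groth.Agent.H9CI.SmoothGraph
import Groth.Agent.H9CI.SyntomicScheme
import Groth.Prelude.Def_Frob
import Mathlib

/-!
# The relative Frobenius of a smooth morphism is syntomic
-/

set_option autoImplicit false
set_option linter.style.haveILetI false
set_option backward.isDefEq.respectTransparency false

universe u

open CategoryTheory CategoryTheory.Limits AlgebraicGeometry TensorProduct FrobAlg

namespace Groth.Agent.H27RelFrobSynt

theorem isSyntomic_of_pushout (p : ℕ) [hp : Fact p.Prime] (d : ℕ) (A C P : Type u) [CommRing A]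
    [CommRing C] [CommRing P] [CharP A p] [CharP C p] [Algebra A C]
    [Algebra.IsStandardSmoothOfRelativeDimension d A C] (ι₁ : C →+* P) (ι₂ : A →+* P)
    (hsq : IsPushout (CommRingCat.ofHom (algebraMap A C)) (CommRingCat.ofHom (frobenius A p))
      (CommRingCat.ofHom ι₁) (CommRingCat.ofHom ι₂))
    (r : P →+* C) (hr1 : ∀ c, r (ι₁ c) = c ^ p) (hr2 : ∀ a, r (ι₂ a) = algebraMap A C a) :
    letI := r.toAlgebra
    Synt.IsSyntomic P C := by
  haveI : Algebra.IsStandardSmooth A C :=
    Algebra.IsStandardSmoothOfRelativeDimension.isStandardSmooth d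
  let ι₂' : Twist p A →+* P := ι₂.comp ((toTwist p A).symm : Twist p A →+* A)
  have hsq₁ : IsPushout (CommRingCat.ofHom (algebraMap A C))
      (CommRingCat.ofHom (algebraMap A (Twist p A))) (CommRingCat.ofHom ι₁)
      (CommRingCat.ofHom ι₂') := hsq
  have h0 := CommRingCat.isPushout_tensorProduct A C (Twist p A)
  let e := h0.isoIsPushout _ _ hsq₁
  let e' : BaseChange p A C ≃+* P := e.commRingCatIsoToRingEquiv
  have he1 : ∀ c, e' (c ⊗ₜ[A] 1) = ι₁ c := fun c =>
    ConcreteCategory.congr_hom (h0.inl_isoIsPushout_hom _ _ hsq₁) c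
  have he2 : ∀ t, e' (1 ⊗ₜ[A] t) = ι₂' t := fun t =>
    ConcreteCategory.congr_hom (h0.inr_isoIsPushout_hom _ _ hsq₁) t
  have he : r.comp (e' : BaseChange p A C →+* P) = relFrob p A C := by
    refine RingHom.ext fun z => ?_
    induction z using TensorProduct.induction_on with
    | zero => simp
    | tmul c t =>
      obtain ⟨a, rfl⟩ := (toTwist p A).surjective t
      rw [← mul_one c, ← one_mul (toTwist p A a), ← Algebra.TensorProduct.tmul_mul_tmul, map_mul,
        map_mul]
      congr 1
      · simp only [RingHom.comp_apply, RingHom.coe_coe, he1, hr1]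
        simp [relFrob, frobHom, frobenius_def]
      · simp only [RingHom.comp_apply, RingHom.coe_coe, one_mul, he2]
        change r (ι₂ a) = _
        rw [hr2]
        simp [relFrob, inclHom]
    | add x y hx hy => rw [map_add, map_add, hx, hy]
  have hflat : r.Flat := by
    have h1 : r = (relFrob p A C).comp (e'.symm : P →+* BaseChange p A C) := by
      rw [← he]
      ext z
      simp
    rw [h1]
    exact RingHom.Flat.comp (RingHom.Flat.of_bijective e'.symm.bijective)
      (H27Frob.flat_relFrob_of_smooth p A C)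
  have hstd : RingHom.IsStandardSmoothOfRelativeDimension d ι₂ := by
    have h1 : RingHom.IsStandardSmoothOfRelativeDimension d
        (algebraMap (Twist p A) (BaseChange p A C)) :=
      RingHom.isStandardSmoothOfRelativeDimension_isStableUnderBaseChange d A C (Twist p A) _
        ((RingHom.isStandardSmoothOfRelativeDimension_algebraMap d).2 inferInstance)
    have h2 := (RingHom.isStandardSmoothOfRelativeDimension_respectsIso (n := d)).2 _ (toTwist p A)
      ((RingHom.isStandardSmoothOfRelativeDimension_respectsIso (n := d)).1 _ e' h1)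
    convert h2 using 1
    ext a
    change ι₂ a = e' (1 ⊗ₜ[A] toTwist p A a)
    rw [he2]
    rfl
  letI : Algebra A P := ι₂.toAlgebra
  letI : Algebra P C := r.toAlgebra
  haveI : IsScalarTower A P C := IsScalarTower.of_algebraMap_eq fun a => (hr2 a).symm
  haveI : Algebra.IsStandardSmoothOfRelativeDimension d A P :=
    (RingHom.isStandardSmoothOfRelativeDimension_algebraMap d).1 hstd
  haveI : Module.Flat P C := hflat
  exact H9CI.isSyntomic_of_flat_smooth (R := A) (A := P) (B := C) d

open FrobSch

theorem main (p : ℕ) [hp : Fact p.Prime] {S X : Scheme.{u}} [IsCharP S p] (f : X ⟶ S) (d : ℕ)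
    [SmoothOfRelativeDimension d f] : Synt.IsSyntomicMor (FrobSch.relFrob f p) := by
  haveI : IsCharP X p := IsCharP.of_hom f p
  rw [H9CI.isSyntomicMor_iff_syntMor,
    HasRingHomProperty.iff_exists_appLE (P := H9CI.syntMor.{u})
      H9CI.stableUnderCompositionWithLocalizationAwaySource]
  intro x
  obtain ⟨W, hW, U, hU, hxU, e, hstd⟩ :=
    SmoothOfRelativeDimension.exists_isStandardSmoothOfRelativeDimension (n := d) (f := f) x
  let g := frob S p
  let U' : (frobTwist f p).Opens := pullback.fst f g ⁻¹ᵁ U ⊓ pullback.snd f g ⁻¹ᵁ W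
  have hUST : W ≤ g ⁻¹ᵁ W := le_rfl
  haveI := isIso_pushoutSection_of_isAffineOpen (IsPullback.of_hasPullback f g) hUST e
    (UY := U') rfl hW hW hU
  have hsq := (isIso_pushoutSection_iff (IsPullback.of_hasPullback f g) hUST e (UY := U') rfl).1
    inferInstance
  have hU' : IsAffineOpen U' :=
    haveI := hW.preimage_of_isIso (𝟙 S)
    haveI : IsAffine _ := hW
    haveI : IsAffine _ := hU
    .of_isIso (Scheme.Hom.isPullback_resLE (IsPullback.of_hasPullback f g) hUST e
      (UY := U') rfl).isoPullback.hom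
  have hle : U ≤ FrobSch.relFrob f p ⁻¹ᵁ U' := by
    intro y hy
    refine ⟨?_, ?_⟩
    · change pullback.fst f g (FrobSch.relFrob f p y) ∈ U
      rw [← Scheme.Hom.comp_apply, relFrob_fst]
      exact hy
    · change pullback.snd f g (FrobSch.relFrob f p y) ∈ W
      rw [← Scheme.Hom.comp_apply, relFrob_snd]
      exact e hy
  refine ⟨⟨U', hU'⟩, ⟨U, hU⟩, hxU, hle, ?_⟩
  letI : Algebra Γ(S, W) Γ(X, U) := (f.appLE W U e).hom.toAlgebra
  haveI : Algebra.IsStandardSmoothOfRelativeDimension d Γ(S, W) Γ(X, U) := hstd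
  haveI : Nonempty U := ⟨⟨x, hxU⟩⟩
  haveI : Nonempty W := ⟨⟨f x, e hxU⟩⟩
  haveI : CharP Γ(S, W) p :=
    (CharP.charP_iff_prime_eq_zero hp.out).2 (natCast_eq_zero_app S p W)
  haveI : CharP Γ(X, U) p :=
    (CharP.charP_iff_prime_eq_zero hp.out).2 (natCast_eq_zero_app X p U)
  have hg : g.appLE W W hUST = CommRingCat.ofHom (frobenius Γ(S, W) p) := by
    ext a
    change (g.appLE W W hUST).hom a = a ^ p
    rw [Scheme.Hom.appLE, CommRingCat.comp_apply, frob_app]
    change (S.presheaf.map (homOfLE _).op) (a ^ p) = a ^ p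
    rw [show (homOfLE hUST) = 𝟙 W from Subsingleton.elim _ _]
    exact congr($(S.presheaf.map_id (Opposite.op W)) (a ^ p))
  rw [hg] at hsq
  refine isSyntomic_of_pushout p d Γ(S, W) Γ(X, U) Γ(frobTwist f p, U')
    ((pullback.fst f g).appLE U U' inf_le_left).hom ((pullback.snd f g).appLE W U' inf_le_right).hom
    hsq ((FrobSch.relFrob f p).appLE U' U hle).hom (fun c => ?_) fun a => ?_
  · rw [← CommRingCat.comp_apply, Scheme.Hom.appLE_comp_appLE]
    have key : ∀ (h : X ⟶ X) (_ : h = frob X p) (e' : U ≤ h ⁻¹ᵁ U),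
        (h.appLE U U e').hom c = c ^ p := by
      rintro _ rfl e'
      rw [Scheme.Hom.appLE, CommRingCat.comp_apply, frob_app]
      change (X.presheaf.map (homOfLE (le_rfl : U ≤ U)).op) (c ^ p) = c ^ p
      exact congr($(X.presheaf.map_id (Opposite.op U)) (c ^ p))
    exact key _ (relFrob_fst f p) _
  · rw [← CommRingCat.comp_apply, Scheme.Hom.appLE_comp_appLE]
    have key : ∀ (h : X ⟶ S) (_ : h = f) (e' : U ≤ h ⁻¹ᵁ W),
        (h.appLE W U e').hom a = algebraMap Γ(S, W) Γ(X, U) a := by
      rintro _ rfl e'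
      rfl
    exact key _ (relFrob_snd f p) _

end Groth.Agent.H27RelFrobSynt
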